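import Mathlib.RingTheory.Ideal.Operations
import Mathlib.RingTheory.IntegralClosure.IsIntegral.Basic
import Mathlib.RingTheory.IntegralClosure.Algebra.Basic
import Mathlib.LinearAlgebra.FreeModule.Finite.Basic
import Mathlib.RingTheory.Localization.Away.Basic
import Mathlib.RingTheory.Localization.Integral

/-!
# Ring-level schematic density

For a set `F` of elements of a ring `A` we say that `F` is `IsRingDense` when the open subset
`⋃ D(f)`, `f ∈ F`, of `Spec A` is schematically dense (restriction of functions from each `D(c)` to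
`D(c) ∩ ⋃ D(f)` is injective). No finiteness is imposed on `F`.

Main results: density passes to finite free algebras (this is the key point: all basic opens of the finite free
algebra are allowed), to localizations.
-/

set_option autoImplicit false
universe u v w

namespace Groth.Agent.Ega4late.H529.RingDense

/-- The open subset `⋃_{f ∈ F} D(f)` is schematically dense in `Spec A`. -/
def IsRingDense (A : Type u) [CommRing A] (F : Set A) : Prop :=
  ∀ c a : A, (∀ f ∈ F, ∃ n : ℕ, (c * f) ^ n * a = 0) → ∃ n : ℕ, c ^ n * a = 0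

/-- The radical of the annihilator of an element. -/
def radAnn {E : Type u} [CommRing E] (b : E) : Ideal E :=
  (Submodule.annihilator (Submodule.span E {b})).radical

lemma mem_radAnn {E : Type u} [CommRing E] {b e : E} : e ∈ radAnn b ↔ ∃ n : ℕ, e ^ n * b = 0 := by
  simp only [radAnn, Ideal.mem_radical_iff, Submodule.mem_annihilator_span_singleton, smul_eq_mul]

lemma mem_of_mul_mem_radAnn {E : Type u} [CommRing E] {b e : E} {n : ℕ} (h : e ∈ radAnn b) :
    e ∈ radAnn (n * b) := by
  rw [mem_radAnn] at h ⊢
  obtain ⟨m, hm⟩ := h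
  exact ⟨m, by rw [mul_left_comm, hm, mul_zero]⟩

lemma radAnn_mul {E : Type u} [CommRing E] {b e : E} (c : E) (h : e ∈ radAnn b) :
    e ∈ radAnn (c * b) := by
  rw [mem_radAnn] at h ⊢
  obtain ⟨m, hm⟩ := h
  exact ⟨m, by rw [mul_left_comm, hm, mul_zero]⟩

/-- The key argument: a family of elements of `A` which is dense on `E` for elements of `A` is dense for
integral elements of `E`. -/
theorem key {A : Type u} {E : Type v} [CommRing A] [CommRing E] [Algebra A E] (F : Set A)
    (hD : ∀ (c : A) (b : E), (∀ f ∈ F, algebraMap A E (c * f) ∈ radAnn b) → algebraMap A E c ∈ radAnn b)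
    (t b : E) (ht : IsIntegral A t) (h : ∀ f ∈ F, algebraMap A E f * t ∈ radAnn b) :
    t ∈ radAnn b := by
  obtain ⟨p, hp, hpt⟩ := ht
  have claim : ∀ j : ℕ, algebraMap A E (p.coeff j) * t ∈ radAnn b := by
    intro j
    induction j using Nat.strong_induction_on with
    | _ j ih =>
      -- split the polynomial at degree `j`
      have hsplit : ∃ Q : E, ∑ i ∈ Finset.range j, algebraMap A E (p.coeff i) * t ^ i +
          t ^ j * (algebraMap A E (p.coeff j) + t * Q) = 0 := by
        refine ⟨∑ i ∈ Finset.range p.natDegree, algebraMap A E (p.coeff (i + j + 1)) * t ^ i, ?_⟩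
        have h1 : ∑ i ∈ Finset.range (j + 1 + p.natDegree), algebraMap A E (p.coeff i) * t ^ i = 0 := by
          rw [← hpt, Polynomial.eval₂_eq_sum_range' (algebraMap A E) (n := j + 1 + p.natDegree) (by omega)]
        rw [Finset.sum_range_add, Finset.sum_range_succ, add_assoc] at h1
        rw [← h1]
        congr 1
        rw [mul_add, mul_comm (t ^ j), Finset.mul_sum, Finset.mul_sum]
        congr 1
        refine Finset.sum_congr rfl fun i _ => ?_
        rw [show i + j + 1 = j + 1 + i by ring]
        ring
      obtain ⟨Q, hQ⟩ := hsplit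
      have hn : (∑ i ∈ Finset.range j, algebraMap A E (p.coeff i) * t ^ i) * t ∈ radAnn b := by
        rw [Finset.sum_mul]
        refine sum_mem fun i hi => ?_
        rw [mul_right_comm]
        exact Ideal.mul_mem_right _ _ (ih i (Finset.mem_range.mp hi))
      have hP : t ^ (j + 1) * (algebraMap A E (p.coeff j) + t * Q) ∈ radAnn b := by
        have : t ^ (j + 1) * (algebraMap A E (p.coeff j) + t * Q) =
            - ((∑ i ∈ Finset.range j, algebraMap A E (p.coeff i) * t ^ i) * t) := by
          linear_combination t * hQ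
        rw [this]
        exact neg_mem hn
      rw [mem_radAnn] at hP
      obtain ⟨M, hM⟩ := hP
      set b' := t ^ ((j + 1) * M) * b with hb'
      have hP' : algebraMap A E (p.coeff j) + t * Q ∈ radAnn b' := by
        rw [mem_radAnn]
        exact ⟨M, by rw [hb', ← hM, mul_pow, ← pow_mul]; ring⟩
      have hc : algebraMap A E (p.coeff j) ∈ radAnn b' := by
        refine hD _ _ fun f hf => ?_
        have h2 : algebraMap A E (p.coeff j * f) =
            algebraMap A E f * (algebraMap A E (p.coeff j) + t * Q) - (algebraMap A E f * t) * Q := by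
          rw [map_mul]; ring
        rw [h2]
        exact sub_mem (Ideal.mul_mem_left _ _ hP') (Ideal.mul_mem_right _ _ (radAnn_mul _ (h f hf)))
      rw [mem_radAnn] at hc ⊢
      obtain ⟨m, hm⟩ := hc
      refine ⟨m + (j + 1) * M, ?_⟩
      have : (algebraMap A E (p.coeff j) * t) ^ (m + (j + 1) * M) * b =
        (algebraMap A E (p.coeff j) ^ ((j + 1) * M) * t ^ m) * (algebraMap A E (p.coeff j) ^ m * b') := by
        rw [hb']; ring
      rw [this, hm, mul_zero]
  have := claim p.natDegree
  rwa [Polynomial.Monic.coeff_natDegree hp, map_one, one_mul] at this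

/-- The density condition for elements of the base, on a submodule of a free module. -/
lemma dense_of_free {A : Type u} [CommRing A] {F : Set A} (hF : IsRingDense A F) {M : Type v} [AddCommGroup M]
    [Module A M] [Module.Projective A M] (c : A) (m : M) (h : ∀ f ∈ F, ∃ n : ℕ, (c * f) ^ n • m = 0) :
    ∃ n : ℕ, c ^ n • m = 0 := by
  obtain ⟨s, hs⟩ := Module.projective_def'.mp ‹Module.Projective A M›
  have hinj : Function.Injective s := fun x y hxy => by
    have := congr(Finsupp.linearCombination A (id : M → M) $hxy)
    rw [← LinearMap.comp_apply, ← LinearMap.comp_apply, hs] at this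
    simpa using this
  have h1 : ∀ x : M, ∃ n : ℕ, c ^ n * s m x = 0 := by
    intro x
    refine hF c (s m x) fun f hf => ?_
    obtain ⟨n, hn⟩ := h f hf
    refine ⟨n, ?_⟩
    have := congr(s $hn x)
    simpa using this
  choose n hn using h1
  refine ⟨(s m).support.sup n, hinj ?_⟩
  rw [map_smul, map_zero]
  ext x
  rw [Finsupp.smul_apply, Finsupp.zero_apply, smul_eq_mul]
  by_cases hx : x ∈ (s m).support
  · have hle : n x ≤ (s m).support.sup n := Finset.le_sup hx
    obtain ⟨k, hk⟩ := Nat.exists_eq_add_of_le hle
    rw [hk, add_comm, pow_add, mul_assoc, hn, mul_zero]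
  · rw [Finsupp.notMem_support_iff.mp hx, mul_zero]

/-- Density passes to integral algebras that are projective modules. -/
theorem IsRingDense.of_isIntegral_projective {A : Type u} {E : Type v} [CommRing A] [CommRing E] [Algebra A E]
    [Algebra.IsIntegral A E] [Module.Projective A E] {F : Set A} (hF : IsRingDense A F) :
    IsRingDense E (algebraMap A E '' F) := by
  intro t b h
  rw [← mem_radAnn]
  refine key F (fun c b h => ?_) t b (Algebra.IsIntegral.isIntegral t) (fun f hf => ?_)
  · rw [mem_radAnn]
    obtain ⟨n, hn⟩ := dense_of_free hF c b fun f hf => by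
      obtain ⟨n, hn⟩ := mem_radAnn.mp (h f hf)
      exact ⟨n, by rw [Algebra.smul_def, map_pow]; exact hn⟩
    exact ⟨n, by rw [← map_pow, ← Algebra.smul_def]; exact hn⟩
  · rw [mem_radAnn, mul_comm]
    exact h _ ⟨f, hf, rfl⟩

/-- Density passes to localizations away from an element. -/
theorem IsRingDense.of_isLocalization {A : Type u} {B : Type v} [CommRing A] [CommRing B] [Algebra A B] (g : A)
    [IsLocalization.Away g B] {F : Set A} (hF : IsRingDense A F) :
    IsRingDense B (algebraMap A B '' F) := by
  intro c a h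
  obtain ⟨⟨c', y⟩, hc'⟩ := IsLocalization.surj (Submonoid.powers g) c
  obtain ⟨⟨a', z⟩, ha'⟩ := IsLocalization.surj (Submonoid.powers g) a
  dsimp only at hc' ha'
  have hy : IsUnit (algebraMap A B y) := IsLocalization.map_units B y
  have hz : IsUnit (algebraMap A B z) := IsLocalization.map_units B z
  have h1 : ∃ n : ℕ, (g * c') ^ n * a' = 0 := by
    refine hF _ _ fun f hf => ?_
    obtain ⟨n, hn⟩ := h _ ⟨f, hf, rfl⟩
    have h2 : algebraMap A B ((c' * f) ^ n * a') = 0 := by
      rw [map_mul, map_pow, map_mul, ← hc', ← ha']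
      have : (c * algebraMap A B y * algebraMap A B f) ^ n * (a * algebraMap A B z) =
        (algebraMap A B y ^ n * algebraMap A B z) * ((c * algebraMap A B f) ^ n * a) := by ring
      rw [this, hn, mul_zero]
    rw [IsLocalization.map_eq_zero_iff (Submonoid.powers g)] at h2
    obtain ⟨⟨_, k, rfl⟩, hk⟩ := h2
    refine ⟨n + k, ?_⟩
    have : (g * c' * f) ^ (n + k) * a' = (g ^ n * (c' * f) ^ k) * (g ^ k * ((c' * f) ^ n * a')) := by ring
    rw [this]
    dsimp only at hk
    rw [hk, mul_zero]
  obtain ⟨n, hn⟩ := h1
  refine ⟨n, ?_⟩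
  have hg : IsUnit (algebraMap A B g) := IsLocalization.Away.algebraMap_isUnit g
  have h3 : algebraMap A B ((g * c') ^ n * a') = 0 := by rw [hn, map_zero]
  rw [map_mul, map_pow, map_mul, ← hc', ← ha'] at h3
  have : (algebraMap A B g * (c * algebraMap A B y)) ^ n * (a * algebraMap A B z) =
    (algebraMap A B g ^ n * algebraMap A B y ^ n * algebraMap A B z) * (c ^ n * a) := by ring
  rw [this] at h3
  exact (((hg.pow n).mul (hy.pow n)).mul hz).mul_right_eq_zero.mp h3

/-- Density can be checked on a cover by basic open subsets. -/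
theorem IsRingDense.of_span_eq_top {A : Type u} [CommRing A] {F : Set A} (s : Set A) (hs : Ideal.span s = ⊤)
    (h : ∀ g ∈ s, IsRingDense (Localization.Away g) (algebraMap A (Localization.Away g) '' F)) :
    IsRingDense A F := by
  intro c a hca
  have h1 : ∀ g ∈ s, g * c ∈ radAnn a := by
    intro g hg
    obtain ⟨n, hn⟩ := h g hg (algebraMap A _ c) (algebraMap A _ a) (by
      rintro _ ⟨f, hf, rfl⟩
      obtain ⟨n, hn⟩ := hca f hf
      exact ⟨n, by rw [← map_mul, ← map_pow, ← map_mul, hn, map_zero]⟩)
    rw [← map_pow, ← map_mul, IsLocalization.map_eq_zero_iff (Submonoid.powers g)] at hn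
    obtain ⟨⟨_, k, rfl⟩, hk⟩ := hn
    dsimp only at hk
    rw [mem_radAnn]
    refine ⟨n + k, ?_⟩
    have : (g * c) ^ (n + k) * a = g ^ n * c ^ k * (g ^ k * (c ^ n * a)) := by ring
    rw [this, hk, mul_zero]
  rw [← mem_radAnn]
  have h2 : Ideal.span s ≤ (radAnn a).colon {c} := by
    rw [Ideal.span_le]
    intro g hg
    simpa [Submodule.mem_colon_singleton] using h1 g hg
  rw [hs] at h2
  have h3 := h2 (Submodule.mem_top (x := (1 : A)))
  simpa [Submodule.mem_colon_singleton] using h3

end Groth.Agent.Ega4late.H529.RingDense
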